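/-
Degree ping-pong: words in "corner dominant" one-parameter matrix groups over `F[X]` are non-scalar, hence
non-scalar at some point of `F` when `F` is large.
-/
import Mathlib

set_option linter.unusedSectionVars false

namespace Cfsg.Agent.Laws

open Polynomial Matrix

variable {ι : Type*} [Fintype ι] [DecidableEq ι] {F : Type*} [Field F]

/-- The entry `(r, c)` of `M` has degree `f`, all the other entries have smaller degree. -/
structure Dom (M : Matrix ι ι F[X]) (r c : ι) (f : ℕ) : Prop where
  top : (M r c).natDegree = f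
  pos : 1 ≤ f
  other : ∀ i j, (i, j) ≠ (r, c) → (M i j).natDegree < f

theorem Dom.le {M : Matrix ι ι F[X]} {r c : ι} {f : ℕ} (h : Dom M r c f) (i j : ι) :
    (M i j).natDegree ≤ f := by
  by_cases hij : (i, j) = (r, c)
  · rw [Prod.mk.injEq] at hij; rw [hij.1, hij.2, h.top]
  · exact (h.other i j hij).le

theorem Dom.mul {M N : Matrix ι ι F[X]} {r s c : ι} {f g : ℕ} (hM : Dom M r s f) (hN : Dom N s c g) :
    Dom (M * N) r c (f + g) := by
  have hMne : M r s ≠ 0 := by
    intro h; have := hM.top; rw [h] at this; simp at this; have := hM.pos; omega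
  have hNne : N s c ≠ 0 := by
    intro h; have := hN.top; rw [h] at this; simp at this; have := hN.pos; omega
  have hsmall : ∀ i k j, ((i, k) ≠ (r, s) ∨ (k, j) ≠ (s, c)) →
      (M i k * N k j).natDegree < f + g := by
    intro i k j h
    refine lt_of_le_of_lt natDegree_mul_le ?_
    rcases h with h | h
    · have := hM.other i k h; have := hN.le k j; omega
    · have := hN.other k j h; have := hM.le i k; omega
  refine ⟨?_, by have := hM.pos; omega, ?_⟩
  · rw [Matrix.mul_apply, ← Finset.add_sum_erase _ _ (Finset.mem_univ s)]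
    have htop : (M r s * N s c).natDegree = f + g := by
      rw [natDegree_mul hMne hNne, hM.top, hN.top]
    rw [natDegree_add_eq_left_of_natDegree_lt]
    · exact htop
    rw [htop]
    refine lt_of_le_of_lt (natDegree_sum_le_of_forall_le (n := f + g - 1) _ _ ?_) (by have := hM.pos; omega)
    intro k hk
    have := hsmall r k c (Or.inl (by simp [(Finset.mem_erase.1 hk).1]))
    omega
  · intro i j hij
    rw [Matrix.mul_apply]
    refine lt_of_le_of_lt (natDegree_sum_le_of_forall_le (n := f + g - 1) _ _ ?_) (by have := hM.pos; omega)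
    intro k _
    have := hsmall i k j ?_
    · omega
    by_contra h
    push Not at h
    simp only [Prod.mk.injEq] at h
    exact hij (by rw [h.1.1, h.2.2])

/-- The polynomial standing for the generator `i`. -/
noncomputable def genPoly (F : Type*) [Field F] (i : ℕ) : F[X] := X ^ (i + 1)

theorem natDegree_genPoly_sub {i j : ℕ} (h : i ≠ j) :
    (genPoly F i - genPoly F j).natDegree = max (i + 1) (j + 1) := by
  rcases Nat.lt_or_gt_of_ne h with hlt | hlt
  · rw [natDegree_sub_eq_right_of_natDegree_lt] <;> simp [genPoly] <;> omega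
  · rw [natDegree_sub_eq_left_of_natDegree_lt] <;> simp [genPoly] <;> omega

/-- The matrix attached to a word. -/
noncomputable def wordVal (A B : F[X] → Matrix ι ι F[X]) : List (ℕ × Bool) → Matrix ι ι F[X]
  | [] => 1
  | (i, true) :: L => A (genPoly F i) * B (genPoly F i) * wordVal A B L
  | (i, false) :: L => B (-genPoly F i) * A (-genPoly F i) * wordVal A B L

variable {A B : F[X] → Matrix ι ι F[X]} {a b : ι} {c : ℕ}

theorem dom_wordVal (hA : ∀ p q, A (p + q) = A p * A q) (hB : ∀ p q, B (p + q) = B p * B q)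
    (hdA : ∀ p : F[X], 1 ≤ p.natDegree → ∃ f, Dom (A p) b a f ∧ f ≤ c * p.natDegree)
    (hdB : ∀ p : F[X], 1 ≤ p.natDegree → ∃ f, Dom (B p) a b f ∧ f ≤ c * p.natDegree)
    (D : ℕ) : ∀ (L : List (ℕ × Bool)) (x : ℕ × Bool), FreeGroup.IsReduced (x :: L) →
      (∀ y ∈ x :: L, y.1 + 1 ≤ D) →
      (∃ R col f, wordVal A B (x :: L) =
          (if x.2 then A (genPoly F x.1) else B (-genPoly F x.1)) * R ∧
        Dom R (if x.2 then a else b) col f ∧ f ≤ c * D * (2 * L.length + 1)) := by
  intro L
  induction L with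
  | nil =>
    rintro ⟨i, β⟩ - hD
    have hi : i + 1 ≤ D := hD _ (List.mem_cons_self ..)
    cases β
    · obtain ⟨f, hf, hfc⟩ := hdA (-genPoly F i) (by simp [genPoly])
      refine ⟨A (-genPoly F i), a, f, by simp [wordVal], hf, ?_⟩
      simp [genPoly] at hfc ⊢
      calc f ≤ c * (i + 1) := hfc
        _ ≤ c * D := Nat.mul_le_mul_left _ hi
    · obtain ⟨f, hf, hfc⟩ := hdB (genPoly F i) (by simp [genPoly])
      refine ⟨B (genPoly F i), b, f, by simp [wordVal], hf, ?_⟩
      simp [genPoly] at hfc ⊢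
      calc f ≤ c * (i + 1) := hfc
        _ ≤ c * D := Nat.mul_le_mul_left _ hi
  | cons y L ih =>
    rintro ⟨i, β⟩ hred hD
    rw [FreeGroup.isReduced_cons_cons] at hred
    obtain ⟨R, col, f, hval, hR, hfle⟩ := ih y hred.2 (fun z hz => hD z (List.mem_cons_of_mem _ hz))
    obtain ⟨j, γ⟩ := y
    have hi : i + 1 ≤ D := hD _ (List.mem_cons_self ..)
    have hj : j + 1 ≤ D := hD _ (List.mem_cons_of_mem _ (List.mem_cons_self ..))
    have hstep : ∀ {g d : ℕ}, g ≤ c * d → d ≤ D → g ≤ c * D :=
      fun h h' => h.trans (Nat.mul_le_mul_left _ h')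
    simp only [List.length_cons]
    cases β <;> cases γ <;> simp only [Bool.false_eq_true, ↓reduceIte] at hR hval ⊢
    · obtain ⟨g, hg, hgc⟩ := hdA (-genPoly F i) (by simp [genPoly])
      obtain ⟨h, hh, hhc⟩ := hdB (-genPoly F j) (by simp [genPoly])
      refine ⟨_, col, g + (h + f), ?_, hg.mul (hh.mul hR), ?_⟩
      · rw [wordVal, hval]; simp only [mul_assoc]
      · have := hstep hgc (by simpa [genPoly] using hi)
        have := hstep hhc (by simpa [genPoly] using hj)
        nlinarith
    · have hne : i ≠ j := fun h => by simpa using hred.1 h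
      obtain ⟨g, hg, hgc⟩ := hdA (genPoly F j - genPoly F i)
        (by rw [natDegree_genPoly_sub hne.symm]; omega)
      refine ⟨_, col, g + f, ?_, hg.mul hR, ?_⟩
      · rw [wordVal, hval, sub_eq_neg_add, hA]; simp only [mul_assoc]
      · have := hstep hgc (by rw [natDegree_genPoly_sub hne.symm]; omega)
        nlinarith
    · have hne : i ≠ j := fun h => by simpa using hred.1 h
      obtain ⟨g, hg, hgc⟩ := hdB (genPoly F i - genPoly F j)
        (by rw [natDegree_genPoly_sub hne]; omega)
      refine ⟨_, col, g + f, ?_, hg.mul hR, ?_⟩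
      · rw [wordVal, hval, sub_eq_add_neg, hB]; simp only [mul_assoc]
      · have := hstep hgc (by rw [natDegree_genPoly_sub hne]; omega)
        nlinarith
    · obtain ⟨g, hg, hgc⟩ := hdB (genPoly F i) (by simp [genPoly])
      obtain ⟨h, hh, hhc⟩ := hdA (genPoly F j) (by simp [genPoly])
      refine ⟨_, col, g + (h + f), ?_, hg.mul (hh.mul hR), ?_⟩
      · rw [wordVal, hval]; simp only [mul_assoc]
      · have := hstep hgc (by simpa [genPoly] using hi)
        have := hstep hhc (by simpa [genPoly] using hj)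
        nlinarith

/-- A bound for the non-vanishing of the values of the word `w`. -/
noncomputable def wordBound (w : FreeGroup ℕ) : ℕ :=
  ((w.toWord.map fun y => y.1 + 1).sum) * (2 * w.toWord.length + 1)

theorem exists_dom_wordVal (hab : a ≠ b) (hA : ∀ p q, A (p + q) = A p * A q)
    (hB : ∀ p q, B (p + q) = B p * B q)
    (hdA : ∀ p : F[X], 1 ≤ p.natDegree → ∃ f, Dom (A p) b a f ∧ f ≤ c * p.natDegree)
    (hdB : ∀ p : F[X], 1 ≤ p.natDegree → ∃ f, Dom (B p) a b f ∧ f ≤ c * p.natDegree)
    (w : FreeGroup ℕ) (hw : w ≠ 1) :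
    ∃ r col f, r ∈ ({a, b} : Set ι) ∧ Dom (wordVal A B w.toWord) r col f ∧ f ≤ c * wordBound w := by
  have hne : w.toWord ≠ [] := fun h => hw (FreeGroup.toWord_eq_nil_iff.1 h)
  obtain ⟨⟨i, β⟩, L, hL⟩ := List.exists_cons_of_ne_nil hne
  have hred : FreeGroup.IsReduced ((i, β) :: L) := hL ▸ FreeGroup.isReduced_toWord
  set D := ((w.toWord.map fun y => y.1 + 1).sum) with hDdef
  have hD : ∀ y ∈ (i, β) :: L, y.1 + 1 ≤ D := by
    intro y hy
    rw [← hL] at hy
    exact List.le_sum_of_mem (List.mem_map.2 ⟨y, hy, rfl⟩)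
  obtain ⟨R, col, f, hval, hR, hfle⟩ := dom_wordVal hA hB hdA hdB D L (i, β) hred hD
  have hi : i + 1 ≤ D := hD _ (List.mem_cons_self ..)
  have hlen : w.toWord.length = L.length + 1 := by rw [hL]; simp
  cases β <;> simp only [Bool.false_eq_true, ↓reduceIte] at hval hR
  · obtain ⟨g, hg, hgc⟩ := hdB (-genPoly F i) (by simp [genPoly])
    refine ⟨a, col, g + f, by simp, ?_, ?_⟩
    · rw [hL, hval]; exact hg.mul hR
    · have : g ≤ c * D := hgc.trans (Nat.mul_le_mul_left _ (by simpa [genPoly] using hi))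
      rw [wordBound, ← hDdef, hlen]
      nlinarith
  · obtain ⟨g, hg, hgc⟩ := hdA (genPoly F i) (by simp [genPoly])
    refine ⟨b, col, g + f, by simp, ?_, ?_⟩
    · rw [hL, hval]; exact hg.mul hR
    · have : g ≤ c * D := hgc.trans (Nat.mul_le_mul_left _ (by simpa [genPoly] using hi))
      rw [wordBound, ← hDdef, hlen]
      nlinarith

theorem exists_eval_ne_zero [Fintype F] (p : F[X]) (hp : p ≠ 0) (hdeg : p.natDegree < Fintype.card F) :
    ∃ t : F, p.eval t ≠ 0 := by
  classical
  by_contra h
  push Not at h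
  exact hp (eq_zero_of_natDegree_lt_card_of_eval_eq_zero' p Finset.univ (fun t _ => h t) (by simpa using hdeg))

theorem Dom.exists_nonscalar [Fintype F] [Nontrivial ι] {M : Matrix ι ι F[X]} {r col : ι} {f : ℕ}
    (h : Dom M r col f) (hf : f < Fintype.card F) :
    ∃ t : F, ∀ z : F, M.map (evalRingHom t) ≠ scalar ι z := by
  have hne : M r col ≠ 0 := by
    intro h0; have := h.top; rw [h0] at this; simp at this; have := h.pos; omega
  by_cases hrc : r = col
  · subst hrc
    obtain ⟨s, hs⟩ := exists_ne r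
    have hlt : (M s s).natDegree < (M r r).natDegree := by
      rw [h.top]; exact h.other s s (by simp [hs])
    have hdeg : (M r r - M s s).natDegree = f := by
      rw [natDegree_sub_eq_left_of_natDegree_lt hlt, h.top]
    obtain ⟨t, ht⟩ := exists_eval_ne_zero (M r r - M s s)
      (by intro h0; rw [h0] at hdeg; simp at hdeg; have := h.pos; omega) (by omega)
    refine ⟨t, fun z hz => ht ?_⟩
    have h1 := congrFun₂ hz r r
    have h2 := congrFun₂ hz s s
    simp [Matrix.map_apply] at h1 h2
    simp [h1, h2]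
  · obtain ⟨t, ht⟩ := exists_eval_ne_zero (M r col) hne (by rw [h.top]; omega)
    refine ⟨t, fun z hz => ht ?_⟩
    simpa [Matrix.map_apply, hrc] using congrFun₂ hz r col

/-- Evaluation: if all values of `A` and `B` are in the range of `φ`, some value of `w` in `G` has non-scalar image. -/
theorem exists_nonscalar_value [Fintype F] {G : Type*} [Group G] (φ : G →* Matrix ι ι F) (hab : a ≠ b)
    (hA : ∀ p q, A (p + q) = A p * A q) (hB : ∀ p q, B (p + q) = B p * B q)
    (hA0 : A 0 = 1) (hB0 : B 0 = 1)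
    (hdA : ∀ p : F[X], 1 ≤ p.natDegree → ∃ f, Dom (A p) b a f ∧ f ≤ c * p.natDegree)
    (hdB : ∀ p : F[X], 1 ≤ p.natDegree → ∃ f, Dom (B p) a b f ∧ f ≤ c * p.natDegree)
    (hrA : ∀ (t : F) (p : F[X]), ∃ g, φ g = (A p).map (evalRingHom t))
    (hrB : ∀ (t : F) (p : F[X]), ∃ g, φ g = (B p).map (evalRingHom t))
    (w : FreeGroup ℕ) (hw : w ≠ 1) (hbig : c * wordBound w < Fintype.card F) :
    ∃ f : ℕ → G, ∀ z : F, φ (FreeGroup.lift f w) ≠ scalar ι z := by
  have : Nontrivial ι := ⟨a, b, hab⟩
  obtain ⟨r, col, d, -, hdom, hd⟩ := exists_dom_wordVal hab hA hB hdA hdB w hw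
  obtain ⟨t, ht⟩ := hdom.exists_nonscalar (by omega)
  choose ga hga using hrA t
  choose gb hgb using hrB t
  set E : Matrix ι ι F[X] →+* Matrix ι ι F := (evalRingHom t).mapMatrix with hE
  have hEA : ∀ p, E (A p) = φ (ga p) := fun p => (hga p).symm
  have hEB : ∀ p, E (B p) = φ (gb p) := fun p => (hgb p).symm
  have hinvA : ∀ p, φ (ga p)⁻¹ = E (A (-p)) := by
    intro p
    refine left_inv_eq_right_inv (a := φ (ga p)) (by rw [← map_mul, inv_mul_cancel, map_one]) ?_
    rw [← hEA, ← map_mul, ← hA, add_neg_cancel, hA0, map_one]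
  have hinvB : ∀ p, φ (gb p)⁻¹ = E (B (-p)) := by
    intro p
    refine left_inv_eq_right_inv (a := φ (gb p)) (by rw [← map_mul, inv_mul_cancel, map_one]) ?_
    rw [← hEB, ← map_mul, ← hB, add_neg_cancel, hB0, map_one]
  refine ⟨fun i => ga (genPoly F i) * gb (genPoly F i), fun z hz => ht z ?_⟩
  rw [← hz]
  have key : ∀ L, φ (FreeGroup.lift (fun i => ga (genPoly F i) * gb (genPoly F i)) (FreeGroup.mk L)) =
      E (wordVal A B L) := by
    intro L
    rw [FreeGroup.lift_mk]
    induction L with
    | nil => simp [wordVal]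
    | cons x L ih =>
      obtain ⟨i, β⟩ := x
      rw [List.map_cons, List.prod_cons, map_mul, ih]
      cases β
      · simp only [cond_false, _root_.mul_inv_rev, wordVal, map_mul, hinvA, hinvB]
      · simp only [cond_true, wordVal, map_mul, hEA, hEB]
  have := key w.toWord
  rw [FreeGroup.mk_toWord] at this
  rw [this]
  rfl

end Cfsg.Agent.Laws
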