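/-
Laws of groups containing a copy of the commutator subgroup of `SL₂(F)` or of an alternating group.
-/
import Mathlib
import Cfsg.Agent.Lib.Laws.PingPong

namespace Cfsg.Agent.Laws

open Polynomial Matrix

universe u v

section
variable {R : Type*} [CommRing R]

/-- upper unitriangular -/
def upperMat (p : R) : Matrix (Fin 2) (Fin 2) R := !![1, p; 0, 1]

/-- lower unitriangular -/
def lowerMat (p : R) : Matrix (Fin 2) (Fin 2) R := !![1, 0; p, 1]

/-- upper unitriangular element of `SL₂` -/
def upperEl (p : R) : SpecialLinearGroup (Fin 2) R := ⟨upperMat p, by simp [upperMat, det_fin_two]⟩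

/-- lower unitriangular element of `SL₂` -/
def lowerEl (p : R) : SpecialLinearGroup (Fin 2) R := ⟨lowerMat p, by simp [lowerMat, det_fin_two]⟩

@[simp] theorem coe_upperEl (p : R) : (upperEl p : Matrix (Fin 2) (Fin 2) R) = upperMat p := rfl

@[simp] theorem coe_lowerEl (p : R) : (lowerEl p : Matrix (Fin 2) (Fin 2) R) = lowerMat p := rfl

theorem upperMat_add (p q : R) : upperMat (p + q) = upperMat p * upperMat q := by
  simp [upperMat, add_comm]

theorem lowerMat_add (p q : R) : lowerMat (p + q) = lowerMat p * lowerMat q := by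
  simp [lowerMat]

theorem upperMat_zero : upperMat (0 : R) = 1 := by simp [upperMat, Matrix.one_fin_two]

theorem lowerMat_zero : lowerMat (0 : R) = 1 := by simp [lowerMat, Matrix.one_fin_two]

end

section
variable {F : Type*} [Field F]

theorem upperEl_mem_commutator [Fintype F] (hq : 4 ≤ Fintype.card F) (p : F) :
    upperEl p ∈ commutator (SpecialLinearGroup (Fin 2) F) ∧
    lowerEl p ∈ commutator (SpecialLinearGroup (Fin 2) F) := by
  classical
  obtain ⟨c, hc0, hc1⟩ : ∃ c : F, c ≠ 0 ∧ c * c ≠ 1 := by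
    by_contra h
    push Not at h
    have hsub : (Finset.univ : Finset F) ⊆ {0, 1, -1} := by
      intro x _
      by_cases hx : x = 0
      · simp [hx]
      · rcases mul_self_eq_one_iff.1 (h x hx) with h1 | h1 <;> simp [h1]
    have h1 := Finset.card_le_card hsub
    have h2 := Finset.card_le_three (a := (0 : F)) (b := 1) (c := -1)
    simp only [Finset.card_univ] at h1
    omega
  have hd : c * c - 1 ≠ 0 := sub_ne_zero.2 hc1
  let h : SpecialLinearGroup (Fin 2) F := ⟨!![c, 0; 0, c⁻¹], by simp [det_fin_two, hc0]⟩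
  obtain ⟨p', rfl⟩ : ∃ p', p = p' * (c * c - 1) := ⟨p / (c * c - 1), (div_mul_cancel₀ p hd).symm⟩
  constructor
  · have : upperEl (p' * (c * c - 1)) = h * upperEl (p') * h⁻¹ * (upperEl (p'))⁻¹ := by
      apply Matrix.SpecialLinearGroup.ext
      intro i j
      change upperMat (p' * (c * c - 1)) i j = ((!![c, 0; 0, c⁻¹]) * upperMat (p') * (Matrix.adjugate !![c, 0; 0, c⁻¹]) *
        Matrix.adjugate (upperMat (p'))) i j
      simp only [upperMat, Matrix.adjugate_fin_two]
      fin_cases i <;> fin_cases j <;> simp [Matrix.mul_apply, Fin.sum_univ_two] <;> field_simp <;> ring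
    rw [this, commutator_eq_closure]
    exact Subgroup.subset_closure ⟨h, _, rfl⟩
  · have : lowerEl (p' * (c * c - 1)) = h⁻¹ * lowerEl (p') * h * (lowerEl (p'))⁻¹ := by
      apply Matrix.SpecialLinearGroup.ext
      intro i j
      change lowerMat (p' * (c * c - 1)) i j = ((Matrix.adjugate !![c, 0; 0, c⁻¹]) * lowerMat (p') * (!![c, 0; 0, c⁻¹]) *
        Matrix.adjugate (lowerMat (p'))) i j
      simp only [lowerMat, Matrix.adjugate_fin_two]
      fin_cases i <;> fin_cases j <;> simp [Matrix.mul_apply, Fin.sum_univ_two] <;> field_simp <;> ring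
    rw [this, commutator_eq_closure]
    exact Subgroup.subset_closure ⟨h⁻¹, _, by simp [commutatorElement_def]; rfl⟩

theorem scalar_of_commute (M : Matrix (Fin 2) (Fin 2) F) (hu : M * upperMat 1 = upperMat 1 * M)
    (hl : M * lowerMat 1 = lowerMat 1 * M) : M = scalar (Fin 2) (M 0 0) := by
  have h1 := congrFun₂ hu 0 0
  have h2 := congrFun₂ hu 0 1
  have h3 := congrFun₂ hl 0 0
  simp [upperMat, lowerMat, Matrix.mul_apply, Fin.sum_univ_two] at h1 h2 h3
  ext i j
  fin_cases i <;> fin_cases j <;> simp_all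

theorem natDegree_lt_of_one {p : F[X]} (hp : 1 ≤ p.natDegree) :
    Dom (upperMat p) 0 1 p.natDegree ∧ Dom (lowerMat p) 1 0 p.natDegree := by
  refine ⟨⟨by simp [upperMat], hp, ?_⟩, ⟨by simp [lowerMat], hp, ?_⟩⟩ <;>
    · intro i j hij
      fin_cases i <;> fin_cases j <;> simp [upperMat, lowerMat] at hij ⊢ <;> omega

/-- A non-trivial word has non-central values on the commutator subgroup of `SL₂(F)`, `F` large. -/
theorem exists_SL2_value [Fintype F] (w : FreeGroup ℕ) (hw : w ≠ 1)
    (hbig : wordBound w + 4 ≤ Fintype.card F) :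
    ∃ f : ℕ → commutator (SpecialLinearGroup (Fin 2) F), ∀ z : F,
      (((FreeGroup.lift f w : commutator (SpecialLinearGroup (Fin 2) F)) : SpecialLinearGroup (Fin 2) F)
        : Matrix (Fin 2) (Fin 2) F) ≠ scalar (Fin 2) z := by
  let φ : commutator (SpecialLinearGroup (Fin 2) F) →* Matrix (Fin 2) (Fin 2) F :=
    { toFun := fun g => ((g : SpecialLinearGroup (Fin 2) F) : Matrix (Fin 2) (Fin 2) F)
      map_one' := rfl
      map_mul' := fun _ _ => rfl }
  exact exists_nonscalar_value (a := 1) (b := 0) (c := 1) φ (by simp) upperMat_add lowerMat_add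
    upperMat_zero lowerMat_zero
    (fun p hp => ⟨_, (natDegree_lt_of_one hp).1, by simp⟩)
    (fun p hp => ⟨_, (natDegree_lt_of_one hp).2, by simp⟩)
    (fun t p => ⟨⟨upperEl (p.eval t), (upperEl_mem_commutator (by omega) _).1⟩, by
      ext i j; fin_cases i <;> fin_cases j <;> simp [φ, upperEl, upperMat]⟩)
    (fun t p => ⟨⟨lowerEl (p.eval t), (upperEl_mem_commutator (by omega) _).2⟩, by
      ext i j; fin_cases i <;> fin_cases j <;> simp [φ, lowerEl, lowerMat]⟩)
    w hw (by omega)

/-- A group with an injective image of the commutator subgroup of a large `SL₂` has no law `w` modulo its centre. -/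
theorem not_law_of_SL2 [Fintype F] {H : Type v} [Group H]
    (ι : commutator (SpecialLinearGroup (Fin 2) F) →* H) (hι : Function.Injective ι)
    (w : FreeGroup ℕ) (hw : w ≠ 1) (hbig : wordBound w + 4 ≤ Fintype.card F) :
    ∃ f : ℕ → H ⧸ Subgroup.center H, FreeGroup.lift f w ≠ 1 := by
  obtain ⟨f, hf⟩ := exists_SL2_value w hw hbig
  refine ⟨fun i => QuotientGroup.mk' _ (ι (f i)), fun h => ?_⟩
  have e : (FreeGroup.lift fun i => QuotientGroup.mk' (Subgroup.center H) (ι (f i))) =
      ((QuotientGroup.mk' _).comp ι).comp (FreeGroup.lift f) := by ext i; simp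
  rw [e] at h
  have hc : ι (FreeGroup.lift f w) ∈ Subgroup.center H :=
    (QuotientGroup.eq_one_iff _).1 h
  have comm : ∀ x, FreeGroup.lift f w * x = x * FreeGroup.lift f w := by
    intro x; apply hι; rw [map_mul, map_mul]; exact (Subgroup.mem_center_iff.1 hc _).symm
  have hu := congrArg (fun x : commutator (SpecialLinearGroup (Fin 2) F) =>
    ((x : SpecialLinearGroup (Fin 2) F) : Matrix (Fin 2) (Fin 2) F))
    (comm ⟨upperEl 1, (upperEl_mem_commutator (by omega) _).1⟩)
  have hl := congrArg (fun x : commutator (SpecialLinearGroup (Fin 2) F) =>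
    ((x : SpecialLinearGroup (Fin 2) F) : Matrix (Fin 2) (Fin 2) F))
    (comm ⟨lowerEl 1, (upperEl_mem_commutator (by omega) _).2⟩)
  exact hf _ (scalar_of_commute _ hu hl)

end

/-- The free group is residually a finite symmetric group. -/
theorem exists_perm_value (w : FreeGroup ℕ) (hw : w ≠ 1) :
    ∃ (m : ℕ) (f : ℕ → Equiv.Perm (Fin m)), FreeGroup.lift f w ≠ 1 := by
  classical
  let F := GaloisField 2 (wordBound w + 4)
  have hcard : Nat.card F = 2 ^ (wordBound w + 4) := GaloisField.card 2 _ (by omega)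
  have : Finite F := Nat.finite_of_card_ne_zero (by rw [hcard]; positivity)
  let _ : Fintype F := Fintype.ofFinite F
  obtain ⟨f, hf⟩ := exists_SL2_value (F := F) w hw (by
    rw [← Nat.card_eq_fintype_card, hcard]; exact (Nat.lt_two_pow_self).le)
  let S := commutator (SpecialLinearGroup (Fin 2) F)
  let _ : Fintype S := Fintype.ofFinite S
  let e : S ≃ Fin (Fintype.card S) := Fintype.equivFin S
  let ψ : S →* Equiv.Perm (Fin (Fintype.card S)) :=
    (Equiv.permCongrHom e).toMonoidHom.comp (MulAction.toPermHom S S)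
  refine ⟨_, fun i => ψ (f i), fun h => ?_⟩
  have e' : (FreeGroup.lift fun i => ψ (f i)) = ψ.comp (FreeGroup.lift f) := by ext i; simp
  rw [e'] at h
  have hinj : Function.Injective ψ := (Equiv.permCongrHom e).injective.comp MulAction.toPerm_injective
  have h1 : FreeGroup.lift f w = 1 := hinj (by rw [map_one]; exact h)
  exact hf 1 (by rw [h1, map_one]; rfl)

theorem exists_alternating_value (w : FreeGroup ℕ) (hw : w ≠ 1) :
    ∃ N : ℕ, 5 ≤ N ∧ ∀ n, N ≤ n → ∃ f : ℕ → alternatingGroup (Fin n), FreeGroup.lift f w ≠ 1 := by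
  obtain ⟨m, f, hf⟩ := exists_perm_value w hw
  refine ⟨m + m + 5, by omega, fun n hn => ?_⟩
  let emb : Fin m ⊕ Fin m ↪ Fin n :=
    (finSumFinEquiv.toEmbedding).trans (Fin.castLEEmb (by omega))
  let δ : Equiv.Perm (Fin m) →* Equiv.Perm (Fin n) :=
    ((Equiv.Perm.viaEmbeddingHom emb).comp (Equiv.Perm.sumCongrHom (Fin m) (Fin m))).comp
      ((MonoidHom.id _).prod (MonoidHom.id _))
  have hmem : ∀ σ, δ σ ∈ alternatingGroup (Fin n) := by
    intro σ
    rw [Equiv.Perm.mem_alternatingGroup]
    simp only [δ, MonoidHom.comp_apply, MonoidHom.prod_apply, MonoidHom.id_apply,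
      Equiv.Perm.viaEmbeddingHom_apply, Equiv.Perm.sumCongrHom_apply]
    rw [Equiv.Perm.viaEmbedding, Equiv.Perm.sign_extendDomain, Equiv.Perm.sign_sumCongr]
    exact Int.units_mul_self _
  let ψ := δ.codRestrict (alternatingGroup (Fin n)) hmem
  refine ⟨fun i => ψ (f i), fun h => hf ?_⟩
  have e' : (FreeGroup.lift fun i => ψ (f i)) = ψ.comp (FreeGroup.lift f) := by ext i; simp
  rw [e'] at h
  have hinj : Function.Injective ψ := by
    intro σ τ hστ
    have := congrArg Subtype.val hστ
    have h2 := (Equiv.Perm.sumCongrHom_injective) (Equiv.Perm.viaEmbeddingHom_injective emb this)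
    exact congrArg Prod.fst h2
  exact hinj (by rw [map_one]; exact h)

end Cfsg.Agent.Laws
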