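/-
A non-trivial word is a law in no large alternating or classical group.
-/
import Mathlib
import Cfsg.Prelude.Def_Classical
import Cfsg.Agent.Lib.Laws.SL2

namespace Cfsg.Agent.Laws

open Matrix

universe u v

/-- The restriction of a hom to commutator subgroups. -/
def commMap {A : Type*} [Group A] {B : Type*} [Group B] (g : A →* B) : commutator A →* commutator B :=
  (g.comp (commutator A).subtype).codRestrict (commutator B) fun x => by
    simp only [MonoidHom.comp_apply, Subgroup.coe_subtype]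
    have : (commutator A).map g ≤ commutator B := by
      rw [commutator_def, Subgroup.map_commutator]
      exact Subgroup.commutator_mono le_top le_top
    exact this ⟨x, x.2, rfl⟩

theorem commMap_injective {A : Type*} [Group A] {B : Type*} [Group B] {g : A →* B}
    (hg : Function.Injective g) : Function.Injective (commMap g) :=
  fun x y h => Subtype.ext (hg (congrArg Subtype.val h))

theorem not_law_of_alternating {n : ℕ} (hn : 5 ≤ n) {H : Type*} [Group H]
    (ι : alternatingGroup (Fin n) →* H) (hι : Function.Injective ι) (w : FreeGroup ℕ)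
    (f : ℕ → alternatingGroup (Fin n)) (hf : FreeGroup.lift f w ≠ 1) :
    ∃ g : ℕ → H ⧸ Subgroup.center H, FreeGroup.lift g w ≠ 1 := by
  refine ⟨fun i => QuotientGroup.mk' _ (ι (f i)), fun h => hf ?_⟩
  have e : (FreeGroup.lift fun i => QuotientGroup.mk' (Subgroup.center H) (ι (f i))) =
      ((QuotientGroup.mk' _).comp ι).comp (FreeGroup.lift f) := by ext i; simp
  rw [e] at h
  have hc : ι (FreeGroup.lift f w) ∈ Subgroup.center H := (QuotientGroup.eq_one_iff _).1 h
  have : FreeGroup.lift f w ∈ Subgroup.center (alternatingGroup (Fin n)) := by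
    rw [Subgroup.mem_center_iff]
    intro x; apply hι; rw [map_mul, map_mul]; exact Subgroup.mem_center_iff.1 hc _
  rwa [alternatingGroup.center_eq_bot (by simp; omega), Subgroup.mem_bot] at this

/-- A hom from a perfect group restricted to the commutator subgroup of the target. -/
theorem alt_mem_commutator {n : ℕ} (hn : 5 ≤ n) {B : Type*} [Group B]
    (g : alternatingGroup (Fin n) →* B) (x : alternatingGroup (Fin n)) : g x ∈ commutator B := by
  have h : (commutator (alternatingGroup (Fin n))).map g ≤ commutator B := by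
    rw [commutator_def, Subgroup.map_commutator]
    exact Subgroup.commutator_mono le_top le_top
  refine h ⟨x, ?_, rfl⟩
  rw [commutator_alternatingGroup_eq_top (by simp; omega)]
  exact Subgroup.mem_top x

section
variable {F : Type*} [Field F]

/-- `SL₂` in the top left corner of `SL_{2+k}`, transported along `Fin 2 ⊕ Fin k ≃ Fin n`. -/
def cornerSL {n : ℕ} (hn : 2 ≤ n) : SpecialLinearGroup (Fin 2) F →* SpecialLinearGroup (Fin n) F where
  toFun g :=
    ⟨Matrix.reindexAlgEquiv F F (finSumFinEquiv.trans (finCongr (Nat.add_sub_cancel' hn)))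
      (fromBlocks g.1 0 0 1), by rw [Matrix.det_reindexAlgEquiv, det_fromBlocks_zero₂₁]; simp⟩
  map_one' := Subtype.ext (by
    change Matrix.reindexAlgEquiv F F _ (fromBlocks 1 0 0 1) = 1
    rw [fromBlocks_one, map_one])
  map_mul' g h := Subtype.ext (by
    change Matrix.reindexAlgEquiv F F _ (fromBlocks (g.1 * h.1) 0 0 1) =
      Matrix.reindexAlgEquiv F F _ (fromBlocks g.1 0 0 1) *
        Matrix.reindexAlgEquiv F F _ (fromBlocks h.1 0 0 1)
    rw [← map_mul]
    simp [fromBlocks_multiply])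

theorem cornerSL_injective {n : ℕ} (hn : 2 ≤ n) : Function.Injective (cornerSL (F := F) hn) := by
  intro g h hgh
  have := (Matrix.reindexAlgEquiv F F _).injective (congrArg Subtype.val hgh)
  exact Subtype.ext (fromBlocks_inj.1 this).1

/-- The permutation matrices of even permutations. -/
noncomputable def permSL (n : ℕ) : alternatingGroup (Fin n) →* SpecialLinearGroup (Fin n) F where
  toFun σ := ⟨(((σ : Equiv.Perm (Fin n))⁻¹).permMatrix F), by
    rw [Matrix.det_permutation, Equiv.Perm.sign_inv, Equiv.Perm.mem_alternatingGroup.1 σ.2]; simp⟩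
  map_one' := Subtype.ext (by simp)
  map_mul' σ τ := Subtype.ext (by
    change ((σ : Equiv.Perm (Fin n)) * τ)⁻¹.permMatrix F = _ * _
    rw [_root_.mul_inv_rev, Matrix.permMatrix_mul])

theorem permSL_injective (n : ℕ) : Function.Injective (permSL (F := F) n) := by
  intro σ τ h
  have h' := congrArg Subtype.val h
  have h'' : ((σ : Equiv.Perm (Fin n))⁻¹) = ((τ : Equiv.Perm (Fin n))⁻¹) := by
    ext i
    have key : ((σ : Equiv.Perm (Fin n))⁻¹).permMatrix F = ((τ : Equiv.Perm (Fin n))⁻¹).permMatrix F := h'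
    by_contra hne
    have := congrFun₂ key i (((σ : Equiv.Perm (Fin n))⁻¹) i)
    have hne' : ((τ : Equiv.Perm (Fin n))⁻¹) i ≠ ((σ : Equiv.Perm (Fin n))⁻¹) i := fun e => hne (congrArg Fin.val e.symm)
    simp only [Equiv.Perm.permMatrix, PEquiv.toMatrix_apply, Equiv.toPEquiv_apply, Option.mem_def,
      Option.some.injEq, ↓reduceIte, if_neg hne'] at this
    exact one_ne_zero this
  exact Subtype.ext (inv_injective h'')

variable (F) in
/-- `GL` acting on a Lagrangian and dually on its complement. -/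
def dualPair (n : ℕ) : SpecialLinearGroup (Fin n) F →* Matrix (Fin n ⊕ Fin n) (Fin n ⊕ Fin n) F where
  toFun g := fromBlocks g.1 0 0 (g⁻¹).1ᵀ
  map_one' := by simp
  map_mul' g h := by simp [fromBlocks_multiply, transpose_mul]

theorem dualPair_injective (n : ℕ) : Function.Injective (dualPair F n) :=
  fun g h e => Subtype.ext (fromBlocks_inj.1 e).1

theorem inv_mul_val {n : ℕ} (g : SpecialLinearGroup (Fin n) F) :
    (g⁻¹).1 * g.1 = 1 ∧ g.1 * (g⁻¹).1 = 1 :=
  ⟨congrArg Subtype.val (inv_mul_cancel g), congrArg Subtype.val (mul_inv_cancel g)⟩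

variable (F) in
/-- `SL_n → Sp_{2n}`. -/
def toSp (n : ℕ) : SpecialLinearGroup (Fin n) F →* Matrix.symplecticGroup (Fin n) F :=
  (dualPair F n).codRestrict _ fun g => by
    rw [SymplecticGroup.mem_iff]
    have h1 := (inv_mul_val g).2
    have h2 : (g⁻¹).1ᵀ * g.1ᵀ = 1 := by rw [← transpose_mul, h1, transpose_one]
    change fromBlocks g.1 0 0 (g⁻¹).1ᵀ * Matrix.J (Fin n) F * (fromBlocks g.1 0 0 (g⁻¹).1ᵀ)ᵀ = Matrix.J (Fin n) F
    generalize (g⁻¹).1 = A at h1 h2 ⊢
    simp [Matrix.J, fromBlocks_transpose, fromBlocks_multiply, h1, h2]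

theorem toSp_injective (n : ℕ) : Function.Injective (toSp F n) :=
  fun g h e => dualPair_injective n (congrArg Subtype.val e)

theorem dualPair_dot (n : ℕ) (g : SpecialLinearGroup (Fin n) F) (v : Fin n ⊕ Fin n → F) :
    ∑ i, ((dualPair F n g) *ᵥ v) (.inl i) * ((dualPair F n g) *ᵥ v) (.inr i) =
      ∑ i, v (.inl i) * v (.inr i) := by
  simp only [dualPair, MonoidHom.coe_mk, OneHom.coe_mk, fromBlocks_mulVec, Matrix.zero_mulVec,
    add_zero, zero_add, Sum.elim_inl, Sum.elim_inr]
  change (g.1 *ᵥ (v ∘ Sum.inl)) ⬝ᵥ ((g⁻¹).1ᵀ *ᵥ (v ∘ Sum.inr)) = (v ∘ Sum.inl) ⬝ᵥ (v ∘ Sum.inr)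
  rw [mulVec_transpose, dotProduct_comm, ← dotProduct_mulVec, mulVec_mulVec, (inv_mul_val g).1,
    one_mulVec, dotProduct_comm]

/-- A hom into `GL` with values preserving `Q` gives a hom into the isometry group. -/
def toIsometry {G : Type*} [Group G] {ι : Type} [Fintype ι] [DecidableEq ι] (Q : (ι → F) → F)
    (φ : G →* Matrix ι ι F) (hφ : ∀ g v, Q (φ g *ᵥ v) = Q v) : G →* Cfsg.isometryGroup F Q :=
  (φ.toHomUnits).codRestrict _ fun g u _ => hφ g u

theorem toIsometry_injective {G : Type*} [Group G] {ι : Type} [Fintype ι] [DecidableEq ι]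
    (Q : (ι → F) → F) (φ : G →* Matrix ι ι F) (hφ : ∀ g v, Q (φ g *ᵥ v) = Q v)
    (h : Function.Injective φ) : Function.Injective (toIsometry Q φ hφ) :=
  fun x y e => h (congrArg (fun z => ((z.1 : GL ι F) : Matrix ι ι F)) e)

variable (F) in
/-- `SL_m → O_{2m+1}`. -/
def oddHom (m : ℕ) : SpecialLinearGroup (Fin m) F →*
    Matrix (Unit ⊕ (Fin m ⊕ Fin m)) (Unit ⊕ (Fin m ⊕ Fin m)) F where
  toFun g := fromBlocks 1 0 0 (dualPair F m g)
  map_one' := by simp
  map_mul' g h := by simp [fromBlocks_multiply]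

variable (F) in
/-- `SL_m → O⁻_{2m+2}`. -/
def minusHom (m : ℕ) : SpecialLinearGroup (Fin m) F →*
    Matrix ((Fin m ⊕ Fin m) ⊕ Fin 2) ((Fin m ⊕ Fin m) ⊕ Fin 2) F where
  toFun g := fromBlocks (dualPair F m g) 0 0 1
  map_one' := by simp
  map_mul' g h := by simp [fromBlocks_multiply]

/-- Having no law `w` modulo the centre. -/
def NoLaw (w : FreeGroup ℕ) (H : Type*) [Group H] : Prop :=
  ∃ g : ℕ → H ⧸ Subgroup.center H, FreeGroup.lift g w ≠ 1

/-- Two kinds of largeness. -/
def IsBig (w : FreeGroup ℕ) (m N : ℕ) (F : Type*) [Fintype F] : Prop :=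
  (N ≤ m ∧ 5 ≤ N ∧ ∀ n, N ≤ n → ∃ f : ℕ → alternatingGroup (Fin n), FreeGroup.lift f w ≠ 1) ∨
    wordBound w + 4 ≤ Fintype.card F

theorem noLaw_comm [Fintype F] {B : Type*} [Group B] {w : FreeGroup ℕ} (hw : w ≠ 1) {m N : ℕ}
    (hm : 2 ≤ m) (hbig : IsBig w m N F) (g : SpecialLinearGroup (Fin m) F →* B)
    (hg : Function.Injective g) : NoLaw w (commutator B) := by
  rcases hbig with ⟨hNm, hN, hAlt⟩ | hq
  · obtain ⟨f, hf⟩ := hAlt m hNm
    refine not_law_of_alternating (by omega)
      ((g.comp (permSL m)).codRestrict _ (fun x => alt_mem_commutator (by omega) _ x)) ?_ w f hf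
    exact fun x y e => permSL_injective m (hg (congrArg Subtype.val e))
  · exact not_law_of_SL2 ((commMap (g.comp (cornerSL hm))))
      (commMap_injective (hg.comp (cornerSL_injective hm))) w hw hq

theorem noLaw_full [Fintype F] {B : Type*} [Group B] {w : FreeGroup ℕ} (hw : w ≠ 1) {m N : ℕ}
    (hm : 2 ≤ m) (hbig : IsBig w m N F) (g : SpecialLinearGroup (Fin m) F →* B)
    (hg : Function.Injective g) : NoLaw w B := by
  rcases hbig with ⟨hNm, hN, hAlt⟩ | hq
  · obtain ⟨f, hf⟩ := hAlt m hNm
    exact not_law_of_alternating (by omega) (g.comp (permSL m)) (hg.comp (permSL_injective m)) w f hf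
  · exact not_law_of_SL2 ((g.comp (cornerSL hm)).comp (commutator _).subtype)
      ((hg.comp (cornerSL_injective hm)).comp Subtype.val_injective) w hw hq

end

end Cfsg.Agent.Laws
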