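/-
A non-trivial word is not a law of a large special unitary group.
-/
import Mathlib
import Cfsg.Prelude.Def_Classical
import Cfsg.Agent.Lib.Laws.Classical

namespace Cfsg.Agent.Laws

open Matrix

variable {F : Type*} [Field F] [Fintype F]

theorem exists_frobenius {q : ℕ} (hF : Fintype.card F = q ^ 2) :
    ∃ σ : F →+* F, (∀ x, σ x = x ^ q) ∧ (∀ x, σ (σ x) = x) ∧ 2 ≤ q := by
  obtain ⟨p, hc, ⟨n, hn⟩, hp, h⟩ := FiniteField.card' F
  have hdvd : q ∣ p ^ n := ⟨q, by rw [← sq, ← hF]; exact h.symm⟩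
  obtain ⟨k, -, rfl⟩ := (Nat.dvd_prime_pow hp).1 hdvd
  have : Fact p.Prime := ⟨hp⟩
  have : ExpChar F p := ExpChar.prime hp
  refine ⟨iterateFrobenius F p k, fun x => iterateFrobenius_def p k x, fun x => ?_, ?_⟩
  · rw [iterateFrobenius_def, iterateFrobenius_def, ← pow_mul, ← sq, ← hF, FiniteField.pow_card]
  · have := Fintype.one_lt_card (α := F)
    rw [hF] at this
    rcases k with _ | k
    · simp at this
    · exact hp.two_le.trans (Nat.le_self_pow (by omega) p)

theorem exists_norm_eq {q : ℕ} (hF : Fintype.card F = q ^ 2) (hq : 2 ≤ q) :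
    (∃ a : F, a * a ^ q = -1) ∧
      ∃ g : Fˣ, ∀ k : ℕ, ((g ^ ((q + 1) * k) : Fˣ) : F) ^ q = ((g ^ ((q + 1) * k) : Fˣ) : F) ∧
        orderOf (g ^ (q + 1)) = q - 1 := by
  classical
  obtain ⟨g, hg⟩ := IsCyclic.exists_generator (α := Fˣ)
  have hord : orderOf g = q ^ 2 - 1 := by
    rw [orderOf_eq_card_of_forall_mem_zpowers hg, Nat.card_units, Nat.card_eq_fintype_card, hF]
  have hfac : q ^ 2 - 1 = (q + 1) * (q - 1) := by
    simpa using Nat.sq_sub_sq q 1
  constructor
  · obtain ⟨k, hk⟩ := (mem_powers_iff_mem_zpowers.2 (hg (-1)))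
    have hk' : g ^ k = -1 := hk
    have h1 : (-1 : Fˣ) ^ (q - 1) = 1 := by
      rcases Nat.even_or_odd q with he | ho
      · have h2 : ringChar F = 2 := by
          rw [FiniteField.even_card_iff_char_two, hF]
          exact Nat.even_iff.1 (by rw [sq]; exact he.mul_right _)
        have : CharP F 2 := ringChar.of_eq h2
        have : (-1 : Fˣ) = 1 := Units.ext (by simp [CharTwo.neg_eq])
        rw [this, one_pow]
      · obtain ⟨t, rfl⟩ := ho
        exact Even.neg_one_pow ⟨t, by omega⟩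
    have hd : (q + 1) * (q - 1) ∣ k * (q - 1) := by
      rw [← hfac, ← hord, orderOf_dvd_iff_pow_eq_one, pow_mul, hk', h1]
    obtain ⟨l, rfl⟩ := Nat.dvd_of_mul_dvd_mul_right (by omega : 0 < q - 1) hd
    refine ⟨((g ^ l : Fˣ) : F), ?_⟩
    rw [← pow_succ', ← Units.val_pow_eq_pow_val, ← pow_mul, mul_comm, hk']
    simp
  · refine ⟨g, fun k => ⟨?_, ?_⟩⟩
    · rw [← Units.val_pow_eq_pow_val]
      congr 1
      have : g ^ ((q + 1) * k * (q - 1)) = 1 :=
        orderOf_dvd_iff_pow_eq_one.1 ⟨k, by rw [hord, hfac]; ring⟩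
      calc (g ^ ((q + 1) * k)) ^ q = g ^ ((q + 1) * k * (q - 1) + (q + 1) * k) := by
            rw [← pow_mul, ← Nat.mul_succ, show (q - 1).succ = q by omega]
        _ = _ := by rw [pow_add, this, one_mul]
    · rw [orderOf_pow_of_dvd (by omega) ⟨q - 1, by rw [hord, hfac]⟩, hord, hfac,
        Nat.mul_div_cancel_left _ (by omega)]

variable {q : ℕ}

theorem mem_SU_of {n : ℕ} (σ : F →+* F) (hσ : ∀ x, σ x = x ^ q) (g : SpecialLinearGroup (Fin n) F)
    (h : g.1ᵀ * g.1.map σ = 1) : g ∈ Cfsg.SU n F q := by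
  intro u v
  have key : ∀ M : Matrix (Fin n) (Fin n) F, Cfsg.hermForm n F q (M *ᵥ u) (M *ᵥ v) =
      u ⬝ᵥ ((Mᵀ * M.map σ) *ᵥ (σ ∘ v)) := by
    intro M
    rw [← mulVec_mulVec, dotProduct_mulVec, vecMul_transpose]
    refine Finset.sum_congr rfl fun i _ => ?_
    rw [← hσ, RingHom.map_mulVec]
  have := key g.1
  rw [h, one_mulVec] at this
  refine this.trans ?_
  exact Finset.sum_congr rfl fun i _ => by simp [hσ]

/-- The even permutation matrices are unitary. -/
theorem noLaw_SU_of_alt {n N : ℕ} (σ : F →+* F) (hσ : ∀ x, σ x = x ^ q) (w : FreeGroup ℕ)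
    (hN : 5 ≤ N) (hn : N ≤ n)
    (hAlt : ∀ n, N ≤ n → ∃ f : ℕ → alternatingGroup (Fin n), FreeGroup.lift f w ≠ 1) :
    NoLaw w (Cfsg.SU n F q) := by
  obtain ⟨f, hf⟩ := hAlt n hn
  refine not_law_of_alternating (by omega) ((permSL n).codRestrict _ fun τ => mem_SU_of σ hσ _ ?_)
    (fun x y e => permSL_injective n (congrArg Subtype.val e)) w f hf
  change (((τ : Equiv.Perm (Fin n))⁻¹).permMatrix F)ᵀ * ((((τ : Equiv.Perm (Fin n))⁻¹).permMatrix F).map σ) = 1
  have hmap : (((τ : Equiv.Perm (Fin n))⁻¹).permMatrix F).map σ =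
      ((τ : Equiv.Perm (Fin n))⁻¹).permMatrix F := by
    ext i j
    simp only [Matrix.map_apply, Equiv.Perm.permMatrix, PEquiv.toMatrix_apply]
    split_ifs <;> simp
  rw [hmap, Matrix.transpose_permMatrix, ← Matrix.permMatrix_mul]
  simp

theorem noLaw_SU_of_card {n : ℕ} (hn : 2 ≤ n) (hF : Fintype.card F = q ^ 2) (w : FreeGroup ℕ) (hw : w ≠ 1)
    (hbig : wordBound w + 5 ≤ q) : NoLaw w (Cfsg.SU n F q) := by
  classical
  obtain ⟨σ, hσ, hσσ, hq⟩ := exists_frobenius hF
  obtain ⟨⟨a, ha⟩, g0, hg0⟩ := exists_norm_eq hF hq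
  let F0 : Subfield F := σ.eqLocusField (RingHom.id F)
  have hmem : ∀ x, x ∈ F0 ↔ σ x = x := fun x => Iff.rfl
  let _ : Fintype F0 := Fintype.ofFinite F0
  have hcard : q - 1 ≤ Fintype.card F0 := by
    let f : Fin (q - 1) → F0 := fun k => ⟨((g0 ^ ((q + 1) * k.1) : Fˣ) : F), (hmem _).2 (by
      rw [hσ]; exact (hg0 k.1).1)⟩
    have hf : Function.Injective f := by
      intro k l hkl
      have h1 : (g0 ^ (q + 1)) ^ k.1 = (g0 ^ (q + 1)) ^ l.1 := by
        rw [← pow_mul, ← pow_mul]; exact Units.ext (congrArg Subtype.val hkl)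
      exact Fin.ext (pow_injOn_Iio_orderOf (by simp [(hg0 0).2]) (by simp [(hg0 0).2]) h1)
    simpa using Fintype.card_le_of_injective f hf
  -- an element moved by `σ`
  obtain ⟨x, hx⟩ : ∃ x : F, σ x ≠ x := by
    by_contra h
    push Not at h
    have hdeg : (Polynomial.X ^ q - Polynomial.X : Polynomial F).natDegree = q :=
      FiniteField.X_pow_card_sub_X_natDegree_eq F (by omega)
    have := Polynomial.eq_zero_of_natDegree_lt_card_of_eval_eq_zero'
      (Polynomial.X ^ q - Polynomial.X : Polynomial F) Finset.univ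
      (fun y _ => by simp [← hσ, h y]) (by rw [hdeg, Finset.card_univ, hF]; nlinarith)
    exact FiniteField.X_pow_card_sub_X_ne_zero F (by omega) this
  have hx0 : x ≠ 0 := fun h0 => hx (by simp [h0])
  have hσ0 : σ x ≠ 0 := by simpa using hx0
  have ha0 : a ≠ 0 := fun h0 => by simp [h0] at ha
  have hane : a * σ a = -1 := by rw [hσ]; exact ha
  -- a second isotropic vector
  set b := a * (x / σ x) with hb
  have hbb : b * σ b = -1 := by
    rw [hb, map_mul, map_div₀, hσσ]
    field_simp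
    linear_combination hane
  have hab : a ≠ b := by
    intro h
    apply hx
    have : x / σ x = 1 := mul_left_cancel₀ ha0 (by rw [mul_one]; exact h.symm)
    exact ((div_eq_one_iff_eq hσ0).1 this).symm
  set c := 1 + a * σ b with hcdef
  have hc : c ≠ 0 := by
    intro h
    apply hab
    have h1 : a * σ b = b * σ b := by rw [hbb]; linear_combination h
    exact mul_right_cancel₀ (fun h0 => by rw [h0, mul_zero] at hbb; simp at hbb) h1
  set δ := x - σ x with hδ
  have hδ0 : δ ≠ 0 := sub_ne_zero.2 (Ne.symm hx)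
  have hσδ : σ δ = -δ := by rw [hδ, map_sub, hσσ]; ring
  set μ := σ (δ / c) with hμ
  have hμ0 : μ ≠ 0 := by simp [hμ, hδ0, hc]
  have hμc : σ μ * c = δ := by rw [hμ, hσσ]; field_simp
  have hμc' : μ * σ c = -δ := by rw [← hσδ, ← hμc, map_mul, hσσ]
  let P : Matrix (Fin 2) (Fin 2) F := !![1, μ; a, μ * b]
  have hK : Pᵀ * P.map σ = !![0, δ; -δ, 0] := by
    ext i j
    fin_cases i <;> fin_cases j <;>
      simp [P, Matrix.mul_apply, Fin.sum_univ_two, Matrix.map_apply]
    · linear_combination hane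
    · rw [← hμc]; ring
    · rw [← hμc', hcdef, map_add, map_mul, map_one, hσσ]; ring
    · linear_combination (μ * σ μ) * hbb
  have hP : P.det ≠ 0 := by
    rw [det_fin_two]; simp [P]
    intro h
    apply hab
    have : μ * (b - a) = 0 := by linear_combination h
    rcases mul_eq_zero.1 this with h' | h'
    · exact absurd h' hμ0
    · exact (sub_eq_zero.1 h').symm
  have hPu : IsUnit P.det := isUnit_iff_ne_zero.2 hP
  let Q : GL (Fin 2) F := GeneralLinearGroup.mkOfDetNeZero P hP
  -- `g ↦ P g P⁻¹`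
  let conjP : SpecialLinearGroup (Fin 2) F0 →* SpecialLinearGroup (Fin 2) F :=
    { toFun := fun g => ⟨P * (SpecialLinearGroup.map F0.subtype g).1 * P⁻¹, by
        rw [det_mul, det_mul, (SpecialLinearGroup.map F0.subtype g).2, mul_one, det_nonsing_inv,
          Ring.mul_inverse_cancel _ hPu]⟩
      map_one' := Subtype.ext (by
        rw [map_one]
        change P * 1 * P⁻¹ = 1
        rw [mul_one, mul_nonsing_inv _ hPu])
      map_mul' := fun g h => Subtype.ext (by
        rw [map_mul]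
        change P * ((SpecialLinearGroup.map F0.subtype g).1 * (SpecialLinearGroup.map F0.subtype h).1) * P⁻¹ =
          P * (SpecialLinearGroup.map F0.subtype g).1 * P⁻¹ * (P * (SpecialLinearGroup.map F0.subtype h).1 * P⁻¹)
        simp only [← mul_assoc]
        rw [nonsing_inv_mul_cancel_right _ _ hPu]) }
  have hconj : Function.Injective conjP := by
    intro g h e
    have e1 : P * (SpecialLinearGroup.map F0.subtype g).1 * P⁻¹ =
        P * (SpecialLinearGroup.map F0.subtype h).1 * P⁻¹ := congrArg Subtype.val e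
    have e2 := congrArg (fun M => P⁻¹ * M * P) e1
    simp only [← mul_assoc, nonsing_inv_mul _ hPu, one_mul] at e2
    rw [nonsing_inv_mul_cancel_right _ _ hPu, nonsing_inv_mul_cancel_right _ _ hPu] at e2
    apply Subtype.ext
    exact Matrix.map_injective Subtype.val_injective e2
  have hmemSU : ∀ g, cornerSL hn (conjP g) ∈ Cfsg.SU n F q := by
    intro g
    apply mem_SU_of σ hσ
    have h2 : ((conjP g).1)ᵀ * (conjP g).1.map σ = 1 := by
      set S := (SpecialLinearGroup.map F0.subtype g).1 with hS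
      have hfix : S.map σ = S := by
        ext i j; exact (g.1 i j).2
      have hSK : Sᵀ * !![0, δ; -δ, 0] * S = !![0, δ; -δ, 0] := by
        have hd : S 0 0 * S 1 1 - S 0 1 * S 1 0 = 1 := by
          rw [← det_fin_two]; exact (SpecialLinearGroup.map F0.subtype g).2
        ext i j
        fin_cases i <;> fin_cases j <;> simp [Matrix.mul_apply, Fin.sum_univ_two]
        · ring
        · linear_combination δ * hd
        · linear_combination -δ * hd
        · ring
      have hval : (conjP g).1 = P * S * P⁻¹ := rfl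
      rw [hval, Matrix.map_mul, Matrix.map_mul, hfix, transpose_mul, transpose_mul]
      have hPinv : P.map σ * (P⁻¹).map σ = 1 := by
        rw [← Matrix.map_mul, mul_nonsing_inv _ hPu, Matrix.map_one σ (map_zero σ) (map_one σ)]
      calc (P⁻¹)ᵀ * (Sᵀ * Pᵀ) * (P.map σ * S * (P⁻¹).map σ)
          = (P⁻¹)ᵀ * (Sᵀ * (Pᵀ * P.map σ) * S) * (P⁻¹).map σ := by simp only [mul_assoc]
        _ = (P⁻¹)ᵀ * (Pᵀ * P.map σ) * (P⁻¹).map σ := by rw [hK, hSK]
        _ = ((P * P⁻¹)ᵀ) * (P.map σ * (P⁻¹).map σ) := by rw [transpose_mul]; simp only [mul_assoc]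
        _ = 1 := by rw [hPinv, mul_nonsing_inv _ hPu, transpose_one, one_mul]
    generalize conjP g = M at h2
    let e := finSumFinEquiv.trans (finCongr (Nat.add_sub_cancel' hn))
    change (Matrix.reindex e e (fromBlocks M.1 0 0 1))ᵀ * (Matrix.reindex e e (fromBlocks M.1 0 0 1)).map σ = 1
    rw [Matrix.transpose_reindex, Matrix.reindex_apply, Matrix.reindex_apply, ← Matrix.submatrix_map,
      Matrix.submatrix_mul_equiv, fromBlocks_map, fromBlocks_transpose, fromBlocks_multiply,
      Matrix.map_one σ (map_zero σ) (map_one σ), Matrix.map_zero σ (map_zero σ), Matrix.map_zero σ (map_zero σ)]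
    simp [h2, fromBlocks_one]
  refine not_law_of_SL2 ((((cornerSL hn).comp conjP).codRestrict _ hmemSU).comp (commutator _).subtype)
    (fun x y e => Subtype.ext (hconj (cornerSL_injective hn (congrArg Subtype.val e)))) w hw (by omega)

end Cfsg.Agent.Laws
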