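/-
Laws of the Suzuki groups.
-/
import Mathlib
import Cfsg.Prelude.Def_Sz
import Cfsg.Agent.Lib.Laws.PingPong

namespace Cfsg.Agent.Laws

open Polynomial Matrix

section
variable {R : Type*} [CommRing R]

/-- The element `u(0, x)` of the root group centre. -/
def szLower (e : ℕ) (x : R) : Matrix (Fin 4) (Fin 4) R :=
  !![1, 0, 0, 0; 0, 1, 0, 0; x, 0, 1, 0; x ^ e, x, 0, 1]

/-- Its conjugate under the antidiagonal involution. -/
def szUpper (e : ℕ) (x : R) : Matrix (Fin 4) (Fin 4) R :=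
  !![1, 0, x, x ^ e; 0, 1, 0, x; 0, 0, 1, 0; 0, 0, 0, 1]

variable [CharP R 2] {e : ℕ}

theorem szLower_add (he : ∃ k, e = 2 ^ k) (x y : R) :
    szLower e (x + y) = szLower e x * szLower e y := by
  obtain ⟨k, rfl⟩ := he
  simp [szLower, add_pow_char_pow, add_comm]

theorem szUpper_add (he : ∃ k, e = 2 ^ k) (x y : R) :
    szUpper e (x + y) = szUpper e x * szUpper e y := by
  obtain ⟨k, rfl⟩ := he
  simp [szUpper, add_pow_char_pow, add_comm]

theorem szLower_zero (he : 0 < e) : szLower e (0 : R) = 1 := by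
  ext i j; fin_cases i <;> fin_cases j <;> simp [szLower, zero_pow he.ne']

theorem szUpper_zero (he : 0 < e) : szUpper e (0 : R) = 1 := by
  ext i j; fin_cases i <;> fin_cases j <;> simp [szUpper, zero_pow he.ne']

end

variable {F : Type*} [Field F]

theorem dom_szLower {e : ℕ} (he : 2 ≤ e) {p : F[X]} (hp : 1 ≤ p.natDegree) :
    Dom (szLower e p) 3 0 (e * p.natDegree) ∧ Dom (szUpper e p) 0 3 (e * p.natDegree) := by
  have hlt : p.natDegree < e * p.natDegree := by nlinarith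
  refine ⟨⟨by simp [szLower, natDegree_pow], by omega, ?_⟩, ⟨by simp [szUpper, natDegree_pow], by omega, ?_⟩⟩
  all_goals
    intro i j hij
    fin_cases i <;> fin_cases j <;> simp [szLower, szUpper] at hij ⊢ <;> omega

/-- The inclusion of the Suzuki group into matrices. -/
def szToMat (F : Type*) [Field F] (e : ℕ) : Cfsg.Lie.Sz F e →* Matrix (Fin 4) (Fin 4) F :=
  (Units.coeHom _).comp (Cfsg.Lie.Sz F e).subtype

variable [CharP F 2] {e : ℕ}

theorem mem_range_szToMat (he : ∃ k, 0 < k ∧ e = 2 ^ k) (hee : ∀ x : F, (x ^ e) ^ e = x ^ 2) (b : F) :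
    (∃ g, szToMat F e g = szLower e b) ∧ (∃ g, szToMat F e g = szUpper e b) := by
  obtain ⟨k, hk, rfl⟩ := he
  set e := 2 ^ k with hedef
  have hz : e ≠ 0 := by positivity
  have hinv : ∀ M : ((x : F) → Matrix (Fin 4) (Fin 4) F), (∀ x y, M (x + y) = M x * M y) → M 0 = 1 →
      ∃ g : GL (Fin 4) F, (g : Matrix (Fin 4) (Fin 4) F) = M b := fun M h1 h2 =>
    ⟨⟨M b, M (-b), by rw [← h1, add_neg_cancel, h2], by rw [← h1, neg_add_cancel, h2]⟩, rfl⟩
  constructor
  · obtain ⟨g, hg⟩ := hinv (szLower e) (szLower_add ⟨k, rfl⟩) (szLower_zero (by positivity))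
    refine ⟨⟨g, Subgroup.subset_closure ⟨fun u v => ?_, ?_⟩⟩, hg⟩
    · change Cfsg.Lie.altForm4 ((g : Matrix (Fin 4) (Fin 4) F) *ᵥ u) ((g : Matrix (Fin 4) (Fin 4) F) *ᵥ v) = _
      rw [hg]
      simp [szLower, Cfsg.Lie.altForm4, Matrix.mulVec, dotProduct, Fin.sum_univ_four]
      ring_nf
      simp [CharTwo.two_eq_zero]
    · rw [hg]
      ext p r
      fin_cases p <;> fin_cases r <;>
        simp [Cfsg.Lie.star4, Cfsg.Lie.pairOf, szLower, Matrix.map_apply, CharTwo.sub_eq_add, zero_pow hz, hee] <;>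
        ring
  · obtain ⟨g, hg⟩ := hinv (szUpper e) (szUpper_add ⟨k, rfl⟩) (szUpper_zero (by positivity))
    refine ⟨⟨g, Subgroup.subset_closure ⟨fun u v => ?_, ?_⟩⟩, hg⟩
    · change Cfsg.Lie.altForm4 ((g : Matrix (Fin 4) (Fin 4) F) *ᵥ u) ((g : Matrix (Fin 4) (Fin 4) F) *ᵥ v) = _
      rw [hg]
      simp [szUpper, Cfsg.Lie.altForm4, Matrix.mulVec, dotProduct, Fin.sum_univ_four]
      ring_nf
      simp [CharTwo.two_eq_zero]
    · rw [hg]
      ext p r
      fin_cases p <;> fin_cases r <;>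
        simp [Cfsg.Lie.star4, Cfsg.Lie.pairOf, szUpper, Matrix.map_apply, CharTwo.sub_eq_add, zero_pow hz, hee] <;>
        ring

theorem exists_Sz_value [Fintype F] {m : ℕ} (hF : Fintype.card F = 2 ^ (2 * m + 1))
    (w : FreeGroup ℕ) (hw : w ≠ 1) (hbig : wordBound w < 2 ^ m) :
    ∃ f : ℕ → Cfsg.Lie.Sz F (2 ^ (m + 1)), FreeGroup.lift f w ≠ 1 := by
  set e := 2 ^ (m + 1) with he
  have h2 : 2 ≤ e := by rw [he]; exact Nat.le_self_pow (by omega) 2
  have hee : ∀ x : F, (x ^ e) ^ e = x ^ 2 := by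
    intro x
    rw [← pow_mul, show e * e = Fintype.card F * 2 by rw [hF, he]; ring, pow_mul, FiniteField.pow_card]
  have hr := fun b => mem_range_szToMat (F := F) (e := e) ⟨m + 1, by omega, rfl⟩ hee b
  have hbig' : e * wordBound w < Fintype.card F := by
    rw [hF]
    calc e * wordBound w < e * 2 ^ m := Nat.mul_lt_mul_of_pos_left hbig (by omega)
      _ = _ := by rw [he, ← pow_add]; ring_nf
  obtain ⟨f, hf⟩ := exists_nonscalar_value (a := 0) (b := 3) (c := e) (szToMat F e) (by decide)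
    (szLower_add (R := F[X]) ⟨m + 1, rfl⟩) (szUpper_add (R := F[X]) ⟨m + 1, rfl⟩)
    (szLower_zero (by omega)) (szUpper_zero (by omega))
    (fun p hp => ⟨_, (dom_szLower h2 hp).1, le_rfl⟩)
    (fun p hp => ⟨_, (dom_szLower h2 hp).2, le_rfl⟩)
    (fun t p => by
      obtain ⟨g, hg⟩ := (hr (p.eval t)).1
      exact ⟨g, hg.trans (by ext i j; fin_cases i <;> fin_cases j <;> simp [szLower] <;> rfl)⟩)
    (fun t p => by
      obtain ⟨g, hg⟩ := (hr (p.eval t)).2
      exact ⟨g, hg.trans (by ext i j; fin_cases i <;> fin_cases j <;> simp [szUpper] <;> rfl)⟩)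
    w hw hbig'
  exact ⟨f, fun h => hf 1 (by rw [h, map_one, map_one])⟩

end Cfsg.Agent.Laws
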